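import Cfsg.Agent.Lib.Transfer.Apps
import Cfsg.Agent.Lib.PGrp.Basic
import Mathlib.GroupTheory.DoubleCoset

/-!
# A non-split central extension for an abelian non-cyclic Sylow subgroup on which the normalizer acts by signs
-/

set_option autoImplicit false
set_option linter.unusedSectionVars false

namespace Cfsg.Lib.SmT
open Subgroup Cfsg.Lib.Transfer
open scoped commutatorElement

variable {G : Type*} [Group G] {p : ℕ} [hp : Fact p.Prime] {P : Subgroup G}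

/-- normalized 2-cocycles -/
structure Coc (G : Type*) [Group G] (p : ℕ) where
  c : G → G → ZMod p
  one_left : ∀ g, c 1 g = 0
  coc : ∀ a b e, c a b + c (a * b) e = c b e + c a (b * e)

/-- the central extension defined by a cocycle -/
@[ext] structure CE (β : Coc G p) where
  g : G
  a : ZMod p

namespace CE
variable {β : Coc G p}

instance instMulCE : Mul (CE β) := ⟨fun x y => ⟨x.g * y.g, x.a + y.a + β.c x.g y.g⟩⟩
instance instOneCE : One (CE β) := ⟨⟨1, 0⟩⟩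
instance instInvCE : Inv (CE β) := ⟨fun x => ⟨x.g⁻¹, -x.a - β.c x.g⁻¹ x.g⟩⟩
@[simp] theorem mul_g (x y : CE β) : (x * y).g = x.g * y.g := rfl
@[simp] theorem mul_a (x y : CE β) : (x * y).a = x.a + y.a + β.c x.g y.g := rfl
@[simp] theorem one_g : (1 : CE β).g = 1 := rfl
@[simp] theorem one_a : (1 : CE β).a = 0 := rfl
@[simp] theorem inv_g (x : CE β) : x⁻¹.g = x.g⁻¹ := rfl
@[simp] theorem inv_a (x : CE β) : x⁻¹.a = -x.a - β.c x.g⁻¹ x.g := rfl

instance instGroupCE : Group (CE β) := Group.ofLeftAxioms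
  (fun x y z => CE.ext (mul_assoc _ _ _) (by simp only [mul_a, mul_g]; linear_combination β.coc x.g y.g z.g))
  (fun x => CE.ext (one_mul _) (by simp [β.one_left])) (fun x => CE.ext (inv_mul_cancel _) (by simp only [mul_a, inv_a, inv_g, one_a]; ring))

instance instFiniteCE [Finite G] : Finite (CE β) :=
  Finite.of_injective (fun x => (x.g, x.a)) fun _ _ e => CE.ext (congrArg Prod.fst e) (congrArg Prod.snd e)

theorem pow_eq (m : ZMod p) (k : ℕ) : (⟨1, m⟩ : CE β) ^ k = ⟨1, k * m⟩ := by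
  induction k with
  | zero => exact CE.ext rfl (by simp)
  | succ k ih => rw [pow_succ, ih]; exact CE.ext (by simp) (by simp [β.one_left, add_mul])

end CE

theorem Coc.exists_ext [Finite G] (β : Coc G p) {x y : G} (h : x * y = y * x) (hc : β.c x y ≠ β.c y x) :
    ∃ (f : CE β →* G) (z : CE β), Function.Surjective f ∧ z ∈ center (CE β) ∧ orderOf z = p ∧ f.ker = zpowers z ∧
      z ∈ commutator (CE β) := by
  have h0 := sub_ne_zero.2 hc
  have h1 : ∀ g, β.c g 1 = 0 := fun g => by simpa [β.one_left] using β.coc g 1 1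
  refine ⟨MonoidHom.mk' CE.g fun _ _ => rfl, ⟨1, β.c x y - β.c y x⟩, fun g => ⟨⟨g, 0⟩, rfl⟩,
    mem_center_iff.2 fun u => CE.ext (by simp) (by simp [h1, β.one_left, add_comm]),
    orderOf_eq_prime (by rw [CE.pow_eq]; exact CE.ext rfl (by simp)) fun e => h0 (congrArg CE.a e),
    le_antisymm (fun u hu => ?_) (zpowers_le.2 rfl), ?_⟩
  · refine mem_zpowers_iff.2 ⟨(u.a / (β.c x y - β.c y x)).val, ?_⟩
    rw [zpow_natCast, CE.pow_eq]
    exact CE.ext hu.symm (by simp [h0])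
  · have : (⟨1, β.c x y - β.c y x⟩ : CE β) = ⁅(⟨x, 0⟩ : CE β), ⟨y, 0⟩⁆ := by
      rw [commutatorElement_def, mul_assoc, ← mul_inv_rev, eq_mul_inv_iff_mul_eq]
      exact CE.ext (by simp [h]) (by simp [β.one_left])
    exact this ▸ commutator_mem_commutator (mem_top _) (mem_top _)

variable [Finite G]

theorem exists_sign (hP : SylowIn p P ⊤) (hc : IsMulCommutative P)
    (hN : ∀ n ∈ normalizer (P : Set G), (∀ x ∈ P, n * x * n⁻¹ = x) ∨ ∀ x ∈ P, n * x * n⁻¹ = x⁻¹) (t : G) :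
    ∃ ε : ℤ, ε * ε = 1 ∧ ∀ a ∈ P, t⁻¹ * a * t ∈ P → t⁻¹ * a * t = a ^ ε := by
  obtain ⟨n, ⟨-, hn⟩, d, ⟨-, hd⟩, rfl⟩ := hP.burnside_fusion (D := centralizer ((P ⊓ cj t P : Subgroup G) : Set G)) (mem_top t⁻¹)
    (fun x hx y hy => le_centralizer_self hc hx y hy.1) fun x hx => mem_cj.2 fun y hy => by
      have := le_centralizer_self hc hx _ (mem_cj.1 hy.2)
      rw [inv_inv, ← mul_left_inj t, ← mul_right_inj t⁻¹]
      simpa [mul_assoc] using this
  have : ∀ a ∈ P, t⁻¹ * a * t ∈ P → t⁻¹ * d * a * (t⁻¹ * d)⁻¹ = t⁻¹ * a * t := fun a h1 h2 => by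
    rw [mul_assoc _ d, ← hd a ⟨h1, mem_cj.2 h2⟩]; group
  rcases hN _ hn with h | h
  · exact ⟨1, rfl, fun a h1 h2 => by rw [← this a h1 h2, h a h1, zpow_one]⟩
  · exact ⟨-1, rfl, fun a h1 h2 => by rw [← this a h1 h2, h a h1, zpow_neg_one]⟩

theorem exists_bi (hP : SylowIn p P ⊤) (hc : IsMulCommutative P)
    (hN : ∀ n ∈ normalizer (P : Set G), (∀ x ∈ P, n * x * n⁻¹ = x) ∨ ∀ x ∈ P, n * x * n⁻¹ = x⁻¹) :
    ∃ ε : G → ZMod p, (∀ r, ε r * ε r = 1) ∧ (∀ (x u : P) r, ε (x * r * u) = ε r) ∧ ∀ φ : P →* Multiplicative (ZMod p),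
      ∃ F : G → ZMod p, ∀ (x u : P) r, F (x * r * u) = ε r * (φ x).toAdd + F r + (φ u).toAdd := by
  choose e h1 h2 using exists_sign hP hc hN
  let t : G → G := fun r => (DoubleCoset.mk P P r).out
  choose a ha b hb h3 using fun r => (DoubleCoset.eq P P (t r) r).1 (Quotient.out_eq _)
  have h4 : ∀ (x u : P) r, t (x * r * u) = t r := fun x u r =>
    congrArg Quotient.out ((DoubleCoset.eq P P _ _).2 ⟨x, x.2, u, u.2, rfl⟩).symm
  refine ⟨fun r => e (t r), fun r => by simpa using congrArg (Int.cast : ℤ → ZMod p) (h1 (t r)), fun x u r => by simp only [h4],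
    fun φ => ⟨fun r => e (t r) * (φ ⟨a r, ha r⟩).toAdd + (φ ⟨b r, hb r⟩).toAdd, fun x u r => ?_⟩⟩
  have h5 := h3 (x * r * u)
  beta_reduce
  rw [h4] at h5 ⊢
  have h6 : (t r)⁻¹ * ((x * a r)⁻¹ * a (x * r * u)) * t r = b r * u * (b (x * r * u))⁻¹ := by
    have e1 := h3 r
    generalize a (x * r * u) = a', b (x * r * u) = b', a r = a0, b r = b0, t r = t0 at h5 e1 ⊢
    rw [show a' = x * r * u * b'⁻¹ * t0⁻¹ by rw [h5]; group, e1]
    group
  rw [h2 _ _ (mul_mem (inv_mem (mul_mem x.2 (ha r))) (ha _)) (h6 ▸ mul_mem (mul_mem (hb r) u.2) (inv_mem (hb _)))] at h6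
  have h7 := congrArg (fun y => (φ y).toAdd) (show ((x * ⟨a r, ha r⟩)⁻¹ * ⟨_, ha (x * r * u)⟩) ^ e (t r) =
    ⟨b r, hb r⟩ * u * ⟨_, hb (x * r * u)⟩⁻¹ from Subtype.ext h6)
  simp only [map_zpow, map_mul, map_inv, toAdd_zpow, toAdd_mul, toAdd_inv, zsmul_eq_mul] at h7
  linear_combination h7

theorem exists_coc (hP : SylowIn p P ⊤) (hc : IsMulCommutative P)
    (hN : ∀ n ∈ normalizer (P : Set G), (∀ x ∈ P, n * x * n⁻¹ = x) ∨ ∀ x ∈ P, n * x * n⁻¹ = x⁻¹)
    (φ γ : P →* Multiplicative (ZMod p)) :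
    ∃ β : Coc G p, ∀ x y : P, β.c x y = P.index * ((φ x).toAdd * (γ y).toAdd) := by
  obtain ⟨ε, h1, h2, h3⟩ := exists_bi hP hc hN
  have := Fintype.ofFinite (G ⧸ P)
  have key : ∀ φ : P →* Multiplicative (ZMod p), ∃ D : G → G ⧸ P → ZMod p, (∀ q, D 1 q = 0) ∧
      (∀ a b q, D (a * b) q = D a (b • q) + D b q) ∧ ∀ (x : P) q, D x q = ε q.out * (φ x).toAdd := fun φ => by
    obtain ⟨F, hF⟩ := h3 φ
    refine ⟨fun a q => F (a * q.out) - F q.out, by simp, fun a b q => ?_, fun x q => by simpa using sub_eq_of_eq_add (by simpa using hF x 1 q.out)⟩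
    obtain ⟨u, e⟩ := QuotientGroup.mk_out_eq_mul P (b * q.out)
    rw [← smul_eq_mul, ← MulAction.Quotient.smul_coe, QuotientGroup.out_eq', smul_eq_mul] at e
    have e1 := hF 1 u (a * (b * q.out))
    have e2 := hF 1 u (b * q.out)
    simp only [e, ← mul_assoc, OneMemClass.coe_one, one_mul, map_one, toAdd_one, mul_zero] at e1 e2 ⊢
    linear_combination e2 - e1
  obtain ⟨D, d1, d2, d3⟩ := key φ
  obtain ⟨E, -, e2, e3⟩ := key γ
  refine ⟨⟨fun a b => ∑ q, D a (b • q) * E b q, by simp [d1], fun a b e => ?_⟩, fun x y => ?_⟩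
  · rw [← Equiv.sum_comp (MulAction.toPerm e) fun q => D a (b • q) * E b q]
    simp only [d2, e2, mul_smul, ← Finset.sum_add_distrib, MulAction.toPerm_apply]
    exact Finset.sum_congr rfl fun q _ => by ring
  · simp only [d3, e3]
    rw [Finset.sum_congr rfl (g := fun _ => (φ x).toAdd * (γ y).toAdd) fun q _ => ?_, Finset.sum_const, Finset.card_univ,
      ← Nat.card_eq_fintype_card, nsmul_eq_mul, index]
    obtain ⟨u, e⟩ := QuotientGroup.mk_out_eq_mul P (y * q.out)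
    rw [← smul_eq_mul, ← MulAction.Quotient.smul_coe, QuotientGroup.out_eq', smul_eq_mul] at e
    rw [e, h2]
    linear_combination (φ x).toAdd * (γ y).toAdd * h1 q.out

theorem exists_hom {Q : Type*} [Group Q] [Finite Q] (hQ : IsPGroup p Q) {M : Subgroup Q} (hM : IsCoatom M) :
    ∃ φ : Q →* Multiplicative (ZMod p), φ.ker = M := by
  have := PGrp.normal_of_isCoatom hQ hM
  let e : Q ⧸ M ≃* Multiplicative (ZMod p) := mulEquivOfPrimeCardEq ((PGrp.isCoatom_iff_index_eq hQ).1 hM) (by simp)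
  exact ⟨e.toMonoidHom.comp (QuotientGroup.mk' M), by
    rw [MonoidHom.ker_comp_of_injective _ _ e.injective, QuotientGroup.ker_mk']⟩

theorem exists_ext (hP : SylowIn p P ⊤) (hc : IsMulCommutative P) (hn : ¬ IsCyclic P)
    (hN : ∀ n ∈ normalizer (P : Set G), (∀ x ∈ P, n * x * n⁻¹ = x) ∨ ∀ x ∈ P, n * x * n⁻¹ = x⁻¹) :
    ∃ (β : Coc G p) (f : CE β →* G) (z : CE β), Function.Surjective f ∧ z ∈ center (CE β) ∧ orderOf z = p ∧
      f.ker = zpowers z ∧ z ∈ commutator (CE β) := by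
  have h0 : ∀ x : P, ∃ M, IsCoatom M ∧ x ∈ M := fun x =>
    (Core.exists_coatom_ge (H := zpowers x) fun e => hn ⟨x, fun y => e.ge (mem_top y)⟩).imp fun M h => ⟨h.1, h.2 (mem_zpowers x)⟩
  obtain ⟨M, hM, -⟩ := h0 1
  obtain ⟨x, -, hx⟩ := SetLike.exists_of_lt hM.lt_top
  obtain ⟨M', hM', hx'⟩ := h0 x
  obtain ⟨y, hy, hy'⟩ := SetLike.not_le_iff_exists.1 fun e : M ≤ M' => hx (((hM.le_iff_eq hM'.1).1 e).le hx')
  obtain ⟨φ, rfl⟩ := exists_hom hP.isPGroup hM
  obtain ⟨γ, rfl⟩ := exists_hom hP.isPGroup hM'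
  obtain ⟨β, h⟩ := exists_coc hP hc hN φ γ
  refine ⟨β, β.exists_ext (x := x) (y := y) (congrArg Subtype.val (hc.1.1 x y)) ?_⟩
  rw [h, h, show γ x = 1 from hx', toAdd_one, mul_zero, mul_zero]
  exact mul_ne_zero (by simpa [ZMod.natCast_eq_zero_iff] using hP.not_dvd) (mul_ne_zero hx hy')

end Cfsg.Lib.SmT
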