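import Cfsg.Agent.Lib.SmT.Char
import Cfsg.Agent.Lib.SmT.Ext
import Cfsg.Agent.Lib.BG1.PLength
import Cfsg.Agent.Lib.Hall.Pron

/-!
# The Smith–Tyrer theorem
-/

set_option autoImplicit false
set_option linter.unusedSectionVars false

namespace Cfsg.Lib.SmT
open Cfsg Cfsg.Lib.Block Cfsg.Lib.Block2 Cfsg.Lib.Char Cfsg.Lib.Core Subgroup
open Cfsg.Lib.Transfer (SylowIn PNil sylowIn_top)
open scoped commutatorElement

variable {G : Type*} [Group G] [Finite G] {p : ℕ} [hp : Fact p.Prime]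

theorem mem_centralizer_of {P : Subgroup G} {n : G} (h : ∀ x ∈ P, n * x * n⁻¹ = x) : n ∈ centralizer (P : Set G) :=
  fun x hx => (mul_inv_eq_iff_eq_mul.1 (h x hx)).symm

theorem eq_one_of_inv (hp2 : p ≠ 2) {P : Subgroup G} (hP : IsPGroup p P) {x : G} (hx : x ∈ P) (h : x = x⁻¹) : x = 1 := by
  obtain ⟨_ | k, hk⟩ := orderOf_eq_pow_of_mem hP hx
  · exact orderOf_eq_one_iff.1 hk
  · exact (hp2 ((Nat.prime_dvd_prime_iff_eq hp.out Nat.prime_two).1 ((dvd_pow_self p k.succ_ne_zero).trans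
      (hk ▸ orderOf_dvd_of_pow_eq_one (by rw [sq, ← eq_inv_iff_mul_eq_one, ← h]))))).elim

theorem normal_of_inv (hp2 : p ≠ 2) (hO : pPrimeCore p G = ⊥) (P : Sylow p G) (hc : IsMulCommutative P.1)
    (hn : ¬ IsCyclic P.1) (hN : ∀ n ∈ normalizer (P.1 : Set G), (∀ x ∈ P.1, n * x * n⁻¹ = x) ∨ ∀ x ∈ P.1, n * x * n⁻¹ = x⁻¹)
    {τ : G} (hτ : τ ∈ normalizer (P.1 : Set G)) (hi : ∀ x ∈ P.1, τ * x * τ⁻¹ = x⁻¹) : P.1.Normal := by
  classical
  have hP := sylowIn_top P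
  have hA : ∀ a b : P.1, a * b = b * a := hc.1.1
  have h9 : 9 ≤ Nat.card P.1 := by
    obtain ⟨_ | _ | k, hk⟩ := P.2.exists_card_eq
    · exact (hn (by have := (Nat.card_eq_one_iff_unique.1 hk).1; infer_instance)).elim
    · exact (hn (isCyclic_of_prime_card (hk.trans (pow_one p)))).elim
    · have := hp.out.two_le
      exact hk ▸ (Nat.pow_le_pow_left (by omega : 3 ≤ p) 2).trans (Nat.pow_le_pow_right (by omega) (by omega))
  have : Nontrivial P.1 := Finite.one_lt_card_iff_nontrivial.1 (by omega)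
  obtain ⟨⟨y, hy⟩, hy1⟩ := exists_ne (1 : P.1)
  replace hy1 : y ≠ 1 := fun e => hy1 (Subtype.ext e)
  have hfrob : ∀ y ∈ P.1, y ≠ 1 → centralizer ({y} : Set G) ⊓ normalizer (P.1 : Set G) ≤ centralizer (P.1 : Set G) :=
    fun y hy h1 n hn => mem_centralizer_of ((hN n hn.2).resolve_right fun h => h1 (eq_one_of_inv hp2 P.2 hy
      (by rw [← h y hy, mem_centralizer_singleton_iff.1 hn.1, mul_inv_cancel_right])))
  have hτC : τ ∉ centralizer (P.1 : Set G) := fun h => hy1 (eq_one_of_inv hp2 P.2 hy (by rw [← hi y hy, ← h y hy, mul_inv_cancel_right]))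
  have hcov : ∀ n ∈ normalizer (P.1 : Set G), n ∉ centralizer (P.1 : Set G) → ∀ m ∈ normalizer (P.1 : Set G),
      m ∉ centralizer (P.1 : Set G) → n * m ∈ centralizer (P.1 : Set G) := fun n h1 h2 m h3 h4 => mem_centralizer_of fun x hx => by
    rw [mul_inv_rev, mul_assoc n, mul_assoc n, ← mul_assoc (m * x), (hN m h3).resolve_left (mt mem_centralizer_of h4) x hx,
      ← mul_assoc, (hN n h1).resolve_left (mt mem_centralizer_of h2) _ (inv_mem hx), inv_inv]
  have hm : (centralizer (P.1 : Set G)).relIndex (normalizer (P.1 : Set G)) = 2 := index_eq_two_iff.2 ⟨⟨τ, hτ⟩, fun b => by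
    by_cases hb : b.1 ∈ centralizer (P.1 : Set G)
    exacts [.inr ⟨hb, fun e => hτC ((mul_mem_cancel_left hb).1 e)⟩, .inl ⟨hcov b b.2 hb τ hτ hτC, hb⟩]⟩
  obtain ⟨M, hM⟩ := exists_isPModular hp.out
  have := hM.2.1
  have := Fintype.ofFinite (principalBlock M G)
  obtain ⟨δ, d, a, ζ, Y, hδ, hY, hcard, ho, ha, -, hcol, hX, -, hs, -⟩ := exists_abFrob hM hP hA hfrob hm (by omega)
  have ho' := Finset.mem_compl.2 ho
  have h1 : ∀ χ ∈ Yᶜ.erase (oneB M G), 1 ≤ a χ ^ 2 := fun χ h =>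
    sq_pos_of_ne_zero (hX χ (Finset.mem_compl.1 (Finset.mem_of_mem_erase h))).1
  have h2 := Finset.card_nsmul_le_sum _ _ _ h1
  have hY4 : (4 : ℤ) ≤ Y.card := by omega
  rw [← Finset.add_sum_erase _ _ ho', ha] at hs
  rw [nsmul_eq_mul, mul_one] at h2
  obtain rfl : d = 0 := by
    by_contra h
    have h3 : 1 ≤ d ^ 2 := sq_pos_of_ne_zero h
    push_cast at hs
    nlinarith [sq_nonneg (d - δ), Int.natCast_nonneg (Yᶜ.erase (oneB M G)).card]
  have hδ2 : δ * δ = 1 := by rcases hδ with rfl | rfl <;> rfl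
  replace hs : ∑ χ ∈ Yᶜ.erase (oneB M G), a χ ^ 2 = 1 := by push_cast at hs; linear_combination hs - hδ2
  obtain ⟨χ, e⟩ := Finset.card_eq_one.1 (le_antisymm (by omega) (Finset.card_pos.2
    (Finset.nonempty_of_sum_ne_zero (hs ▸ one_ne_zero))))
  have hχ := Finset.mem_erase.1 (e.ge (Finset.mem_singleton_self χ))
  rw [e, Finset.sum_singleton] at hs
  have e2 : (a χ : ℂ) * a χ = 1 := by rw [← sq]; exact_mod_cast hs
  have e3 : (δ : ℂ) * δ = 1 := by exact_mod_cast hδ2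
  have hr : ∀ η ∈ Y, ∀ g, ¬ p ∣ orderOf g → η.1.1 g = δ * (1 + a χ * χ.1.1 g) := fun η hη g hg => by
    have := (abFrob_regular hM P.2 hδ hY hcol hg).2 η hη
    rw [← Finset.add_sum_erase _ _ ho', ha, e, Finset.sum_singleton, oneB_apply] at this
    push_cast at this
    linear_combination -δ * this - η.1.1 g * e3
  have hsing : ∀ g, p ∣ orderOf g → a χ * χ.1.1 g = 1 := fun g hg => by
    obtain ⟨x, hx⟩ := exists_isPPart hp.out g
    obtain ⟨k, hk⟩ := hx.orderOf_eq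
    obtain ⟨c, hc⟩ := Invol.exists_conj_mem_sylow P (x := x) (k := k) (hk ▸ pow_orderOf_eq_one x)
    have hc1 : c * x * c⁻¹ ≠ 1 := fun e => (hx.eq_one_iff hp.out).1 (by simpa using e) hg
    rw [← χ.1.2.isClassFunction.conj_eq g c, apply_eq_of_pnil hM (hx.conj hp.out c)
      (pnil_centralizer_of_frob hP hA hc (hfrob _ hc hc1)), (hX χ (Finset.mem_compl.1 hχ.2)).2 _ hc hc1, e2]
  have := χ.1.2.charKer_normal
  by_cases h3 : a χ * χ.1.1 1 = 1
  · have hK : ∀ g, p ∣ orderOf g → g ∈ charKer χ.1.1 := fun g hg =>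
      χ.1.2.mem_charKer.2 (by linear_combination a χ * (hsing g hg - h3) - (χ.1.1 g - χ.1.1 1) * e2)
    have hy2 := orderOf_eq_pow_of_mem P.2 hy
    have hCK : centralizer (P.1 : Set G) ≤ charKer χ.1.1 := fun c hc => by
      by_cases h : p ∣ orderOf c
      · exact hK c h
      · have h4 := fun z (h : IsPPart p z y) => hK z (not_not.1 (mt (h.eq_one_iff hp.out).2 hy1))
        exact (mul_mem_cancel_left (h4 y (isPPart_self hp.out hy2))).1 (h4 _ (isPPart_mul (hc y hy) hy2 h))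
    have hPK := hP.mono (((le_centralizer_iff_isMulCommutative).2 hc).trans hCK) le_top
    have h4 : PNil p (charKer χ.1.1) := hPK.pnil_of_normalizer_le_centralizer fun n hn => by
      by_contra h
      refine hχ.1 (Subtype.ext (Subtype.ext (χ.1.2.charKer_eq_top_iff.1 (eq_top_iff.2 fun g _ => ?_))))
      obtain ⟨k, hk, m, hm, rfl⟩ := hPK.frattini (H := ⊤) le_normalizer_of_normal (mem_top g)
      refine mul_mem hk (by_contra fun h5 => h5 ?_)
      exact (Subgroup.mul_mem_cancel_left _ hn.1).1 (hCK (hcov n hn.2 h m hm fun e => h5 (hCK e)))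
    have := Transfer.resOf_normal (p := p) (charKer χ.1.1)
    rwa [← hPK.eq_of_le (Invol.isPGroup_of_forall fun _ hx => let ⟨k, hk⟩ := Transfer.exists_pow_mem_resOf (p := p) hx
      ⟨k, (eq_bot_iff_forall _).1 (eq_bot_of_pPrimeCore_eq_bot hO h4.coprime) _ hk⟩) hPK.1 le_rfl]
  have hK : charKer χ.1.1 = ⊥ := eq_bot_of_pPrimeCore_eq_bot hO ((hp.out.coprime_iff_not_dvd.2 fun h => by
    obtain ⟨g, hg⟩ := exists_prime_orderOf_dvd_card' p h
    exact h3 (χ.1.2.mem_charKer.1 g.2 ▸ hsing g (by rw [Subgroup.orderOf_coe, hg]))).symm)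
  obtain ⟨u, hu⟩ := exists_prime_orderOf_dvd_card' (hp := ⟨Nat.prime_two⟩) (G := G) 2
    ((hm ▸ relIndex_dvd_card _ _).trans (card_subgroup_dvd_card _))
  obtain ⟨β, f, z, hf, hz, h4, h5, h6⟩ := exists_ext hP hc hn hN
  obtain ⟨η, hη⟩ := Finset.card_pos.1 (show 0 < Y.card by omega)
  refine (core hp2 hM hf hz h4 h5 h6 hs hχ.1 hsing (fun η h1 h2 => ⟨δ, hr η (by_contra fun h => h2 ?_)⟩) (u := u)
    (by rw [← sq, ← hu, pow_orderOf_eq_one]) (fun h => ?_) h3 fun h => η.1.2.apply_one_ne_zero ?_).elim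
  · exact Finset.mem_singleton.1 (e.le (Finset.mem_erase.2 ⟨h1, Finset.mem_compl.2 h⟩))
  · simp [mem_bot.1 (hK.le (χ.1.2.mem_charKer.2 h))] at hu
  · rw [hr η hη 1 (by simpa using hp.out.ne_one), add_comm, h, mul_zero]

theorem smith_tyrer (hp2 : p ≠ 2) (P : Sylow p G) (hc : IsMulCommutative P.1) (hn : ¬ IsCyclic P.1)
    (hm : (centralizer (P.1 : Set G)).relIndex (normalizer (P.1 : Set G)) = 2) (hG : pResidual p G = ⊤) : PLengthLE p 1 G := by
  have hP := sylowIn_top P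
  have h1 := hP.inf_resOf_of_comm hc
  rw [Transfer.resOf_top, hG, inf_top_eq, top_inf_eq] at h1
  have hi : ∀ n ∈ normalizer (P.1 : Set G), n ∉ centralizer (P.1 : Set G) → ∀ x ∈ P.1, n * x * n⁻¹ = x⁻¹ := fun n h2 h3 => by
    let K : Subgroup G :=
      { carrier := {x | x ∈ P.1 ∧ n * x * n⁻¹ = x⁻¹}
        one_mem' := ⟨one_mem _, by simp⟩
        mul_mem' := fun {a b} ha hb => ⟨mul_mem ha.1 hb.1, by
          rw [← conj_mul, ha.2, hb.2, ← mul_inv_rev, le_centralizer_iff_isMulCommutative.2 hc ha.1 b hb.1]⟩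
        inv_mem' := fun {a} ha => ⟨inv_mem ha.1, by rw [← conj_inv, ha.2]⟩ }
    refine fun x hx => (h1.le.trans (commutator_le.2 fun y hy m hm' => ?_ : _ ≤ K) hx).2
    by_cases h4 : m ∈ centralizer (P.1 : Set G)
    · rw [commutatorElement_eq_one_iff_mul_comm.2 (h4 y hy)]; exact one_mem K
    have h5 : ∀ y ∈ P.1, n * (m * y * m⁻¹) * n⁻¹ = y := fun y hy => by
      have : y * (n * m) = n * m * y := ((mul_mem_iff_of_index_two hm (a := ⟨n, h2⟩) (b := ⟨m, hm'⟩)).2 (iff_of_false h3 h4)) y hy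
      rw [← mul_assoc, ← mul_assoc, ← this]; group
    have h6 : ∀ y ∈ P.1, m * y * m⁻¹ ∈ P.1 := fun y hy => (mem_normalizer_iff.1 hm' y).1 hy
    have h7 : ∀ y ∈ P.1, n * y * n⁻¹ = m * y * m⁻¹ := fun y hy => by
      have : y * (m⁻¹ * n) = m⁻¹ * n * y := ((mul_mem_iff_of_index_two hm (a := ⟨m, hm'⟩⁻¹) (b := ⟨n, h2⟩)).2 (iff_of_false (mt inv_mem_iff.1 h4) h3)) y hy
      rw [← mul_inv_cancel_left m (n * y), ← mul_assoc m⁻¹, ← this]; group
    have e : ⁅y, m⁆ = y * (m * y⁻¹ * m⁻¹) := by rw [commutatorElement_def]; group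
    rw [e]
    exact ⟨mul_mem hy (h6 _ (inv_mem hy)), by rw [← conj_mul, h5 _ (inv_mem hy), h7 y hy]; group⟩
  obtain ⟨τ, h2⟩ := index_eq_two_iff.1 hm
  have h3 : τ.1 ∉ centralizer (P.1 : Set G) := fun h => (h2 1).elim (fun a => a.2 (one_mem _)) fun a => a.2 (by rwa [one_mul])
  let f := QuotientGroup.mk' (pPrimeCore p G)
  have hf : Function.Surjective f := QuotientGroup.mk'_surjective _
  have hN := Hall.normalizer_map_mk'_of_isPronormal (Hall.isPronormal_sylow P) (pPrimeCore p G)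
  have : (P.1.map f).Normal := normal_of_inv hp2 pPrimeCore_quotient_pPrimeCore (P.mapSurjective hf) (map_isMulCommutative _ _)
    (fun h => hn ?_) (fun n hn => ?_) (τ := f τ) (hN.le ⟨τ, τ.2, rfl⟩) ?_
  · refine (BG1.plength1_iff_index hp.out).2 fun h => P.not_dvd_index (h.trans (index_dvd_of_le ?_))
    exact map_le_iff_le_comap.1 (le_pCore (P.2.map f))
  · refine (MulEquiv.isCyclic (MonoidHom.ofInjective (f := f.domRestrict P.1) ?_)).2 (by rwa [MonoidHom.domRestrict_range])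
    rw [← MonoidHom.ker_eq_bot_iff, MonoidHom.ker_domRestrict, QuotientGroup.ker_mk', subgroupOf_eq_bot, disjoint_iff, inf_comm]
    exact inf_eq_bot_of_isPGroup_of_coprime hp.out P.2 (coprime_card_pPrimeCore p G)
  · obtain ⟨n, h5, rfl⟩ := hN.ge hn
    by_cases h4 : n ∈ centralizer (P.1 : Set G)
    · left; rintro _ ⟨x, hx, rfl⟩; rw [← map_inv, ← map_mul, ← map_mul, ← h4 x hx, mul_inv_cancel_right]
    · right; rintro _ ⟨x, hx, rfl⟩; rw [← map_inv, ← map_mul, ← map_mul, hi n h5 h4 x hx, map_inv]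
  · rintro _ ⟨x, hx, rfl⟩; rw [← map_inv, ← map_mul, ← map_mul, hi τ τ.2 h3 x hx, map_inv]

end Cfsg.Lib.SmT
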