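import Cfsg.Agent.Lib.Block.AbThree
import Cfsg.Agent.Lib.Block.BrauerInd
import Cfsg.Agent.Lib.Block2.Quot

/-!
# Smith–Tyrer, character part: a principal block of dihedral shape forbids a central `p`-extension
-/

set_option autoImplicit false
set_option linter.unusedSectionVars false

namespace Cfsg.Lib.SmT
open Cfsg Cfsg.Lib.Block Cfsg.Lib.Block2 Cfsg.Lib.Char Subgroup
open scoped ComplexConjugate

variable {X : Type*} [Group X] [Finite X] {G : Type*} [Group G] [Finite G] {p : ℕ} [hp : Fact p.Prime]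

variable (p) in
/-- the `p'`-part of an element -/
noncomputable def reg (g : X) : X := (exists_isPPart hp.out g).choose⁻¹ * g

theorem reg_eq {g x : X} (h : IsPPart p g x) : reg p g = x⁻¹ * g := by
  rw [reg, (exists_isPPart hp.out g).choose_spec.unique hp.out h]

theorem reg_regular (g : X) : ¬ p ∣ orderOf (reg p g) := (exists_isPPart hp.out g).choose_spec.not_dvd_orderOf

theorem map_reg (f : X →* G) (g : X) : f (reg p g) = reg p (f g) := by
  obtain ⟨x, hx⟩ := exists_isPPart hp.out g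
  rw [reg_eq hx, reg_eq (hx.map hp.out f), map_mul, map_inv]

theorem reg_of_regular {g : X} (h : ¬ p ∣ orderOf g) : reg p g = g := by simp [reg_eq (isPPart_one_iff.2 h)]

theorem reg_mul [Group.IsNilpotent X] (a b : X) : reg p (a * b) = reg p a * reg p b := by
  obtain ⟨N, hN, hNp, k, hk⟩ := exists_normal_complement_of_hasNormalPComplement
    (Transfer.hasNormalPComplement_of_isNilpotent (p := p) (G := X))
  obtain ⟨Q⟩ : Nonempty (Sylow p X) := inferInstance
  have hQ : Q.1.Normal := inferInstance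
  have h1 : ∀ {g x : X}, IsPPart p g x → x ∈ Q.1 := fun {g x} h => by
    obtain ⟨k, e⟩ := h.orderOf_eq
    obtain ⟨c, hc⟩ := Invol.exists_conj_mem_sylow Q (e ▸ pow_orderOf_eq_one x)
    simpa [mul_assoc] using hQ.conj_mem _ hc c⁻¹
  have h2 : ∀ g : X, reg p g ∈ N := fun g => mem_of_index_eq_pow hk (reg_regular g)
  have h3 : ∀ x ∈ Q.1, ∀ y ∈ N, Commute x y := fun x hx y hy =>
    commute_of_normal_of_disjoint _ _ hQ hN (disjoint_of_coprime_natCard (by
      obtain ⟨n, e⟩ := Q.2.exists_card_eq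
      exact e ▸ ((hp.out.coprime_iff_not_dvd).2 hNp).pow_left n)) x y hx hy
  obtain ⟨x, hx⟩ := exists_isPPart hp.out a
  obtain ⟨y, hy⟩ := exists_isPPart hp.out b
  have e : a * b = x * y * (reg p a * reg p b) := by
    rw [mul_assoc, ← mul_assoc y, (h3 y (h1 hy) _ (h2 a)).eq, reg_eq hx, reg_eq hy]; group
  have h4 := N.mul_mem (h2 a) (h2 b)
  have h5 := Q.1.mul_mem (h1 hx) (h1 hy)
  rw [reg_eq (e ▸ isPPart_mul (h3 _ h5 _ h4) (orderOf_eq_pow_of_mem Q.2 h5) fun h => hNp (h.trans (N.orderOf_dvd_natCard h4))),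
    e, inv_mul_cancel_left]

theorem isGen_reg {θ : X → ℂ} (hθ : IsGeneralizedCharacter X θ) : IsGeneralizedCharacter X fun g => θ (reg p g) := by
  refine brauer_characterization (fun g h => ?_) fun E q hq hE => ?_
  · exact (congrArg θ (map_reg (MulAut.conj h).toMonoidHom g).symm).trans (hθ.isClassFunction _ _)
  · have := hE.isNilpotent hq
    convert hθ.comp (E.subtype.comp (MonoidHom.mk' (reg p) reg_mul)) using 3 with e
    exact (map_reg E.subtype e).symm

theorem filter_sum {ι : Type*} [Fintype ι] {ζ a : ι → ℂ} (hζ : ∀ i, ζ i ^ p = 1)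
    (h : ∀ k, 0 < k → k < p → ∑ i, ζ i ^ k * a i = 0) {ω : ℂ} (hω : ω ^ p = 1) :
    p * ∑ i with ζ i = ω, a i = ∑ i, a i := by
  have h0 : ω ≠ 0 := fun e => by simp [e, hp.out.ne_zero] at hω
  have h1 : ∑ k ∈ Finset.range p, ω⁻¹ ^ k * ∑ i, ζ i ^ k * a i = ∑ i, a i := by
    rw [Finset.sum_eq_single_of_mem 0 (Finset.mem_range.2 hp.out.pos) fun k hk e => by
      rw [h k (Nat.pos_of_ne_zero e) (Finset.mem_range.1 hk), mul_zero]]
    simp
  rw [← h1, Finset.sum_filter, Finset.mul_sum]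
  simp only [Finset.mul_sum]
  rw [Finset.sum_comm]
  refine Finset.sum_congr rfl fun i _ => ?_
  simp only [← mul_assoc, ← mul_pow, ← Finset.sum_mul]
  split_ifs with e
  · simp [e, h0]
  · have : ω⁻¹ * ζ i ≠ 1 := fun a => e ((inv_mul_eq_one₀ h0).1 a).symm
    rw [geom_sum_eq this, mul_pow, inv_pow, hω, hζ]
    simp

theorem two_of_sum_sq {ι : Type*} [DecidableEq ι] {S : Finset ι} {n : ι → ℤ} (h : ∑ i ∈ S, n i ^ 2 = 2) :
    ∃ i ∈ S, ∃ j ∈ S, n i ^ 2 = 1 ∧ n j ^ 2 = 1 ∧ ∀ f : ι → ℂ, ∑ k ∈ S, n k * f k = n i * f i + n j * f j := by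
  have h1 : ∑ i ∈ S with n i ≠ 0, n i ^ 2 = 2 := by
    rw [← h]
    exact Finset.sum_filter_of_ne fun i _ e (a : n i = 0) => e (by simp [a])
  have h2 : ∀ f : ι → ℂ, ∑ k ∈ S, n k * f k = ∑ k ∈ S with n k ≠ 0, n k * f k := fun f =>
    Eq.symm <| Finset.sum_filter_of_ne fun i _ e (a : n i = 0) => e (by simp [a])
  have h3 : ∀ i ∈ S.filter fun i => n i ≠ 0, 1 ≤ n i ^ 2 := fun i hi => sq_pos_of_ne_zero (Finset.mem_filter.1 hi).2
  have h4 := Finset.card_nsmul_le_sum _ _ _ h3
  rw [h1, nsmul_eq_mul, mul_one] at h4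
  obtain h5 | h5 | h5 : (S.filter fun i => n i ≠ 0).card = 0 ∨ (S.filter fun i => n i ≠ 0).card = 1 ∨
    (S.filter fun i => n i ≠ 0).card = 2 := by omega
  · simp [Finset.card_eq_zero.1 h5] at h1
  · obtain ⟨i, e⟩ := Finset.card_eq_one.1 h5
    rw [e, Finset.sum_singleton] at h1
    have : n i ≤ 1 := by nlinarith
    have : -1 ≤ n i := by nlinarith
    interval_cases n i <;> simp at h1
  · obtain ⟨i, j, hij, e⟩ := Finset.card_eq_two.1 h5
    simp only [e, Finset.sum_pair hij] at h1 h2 h3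
    have hi := h3 i (by simp)
    have hj := h3 j (by simp)
    exact ⟨i, (Finset.mem_filter.1 (e.ge (by simp))).1, j, (Finset.mem_filter.1 (e.ge (by simp))).1, by omega, by omega, h2⟩

theorem alg {A B x y d w : ℂ} (hA : A ≠ 0) (hB : B ≠ 0) (h0 : d ≠ 0) (h1 : d ≠ 1) (h2 : d + 1 ≠ 0) (h3 : d ≠ w)
    (e1 : A + B = 1 - d) (e2 : x + y = 1 - w) (e3 : x ^ 2 / A + y ^ 2 / B = 1 - w ^ 2 / d)
    (e4 : (w + 1) * A - (d + 1) * x + (d - w) = 0) : A = 1 ∨ B = 1 := by
  replace e3 : x ^ 2 * B * d + y ^ 2 * A * d = A * B * (d - w ^ 2) := by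
    field_simp at e3
    linear_combination e3
  obtain ⟨b, rfl⟩ : ∃ b, A = 1 + b * (d + 1) := ⟨(A - 1) / (d + 1), by field_simp; ring⟩
  obtain rfl : x = 1 + b * (w + 1) := mul_left_cancel₀ h2 (by linear_combination -e4)
  obtain rfl : B = -b - (b + 1) * d := by linear_combination e1
  obtain rfl : y = -b - (b + 1) * w := by linear_combination e2
  have : b * (b + 1) * ((d - 1) * (d - w) ^ 2) = 0 := by linear_combination e3
  rcases mul_eq_zero.1 ((mul_eq_zero.1 this).resolve_right (mul_ne_zero (sub_ne_zero.2 h1)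
    (pow_ne_zero _ (sub_ne_zero.2 h3)))) with h | h
  · exact Or.inl (by simp [h])
  · exact Or.inr (by linear_combination (-1 - d) * h)

section core
variable {M : Ideal AlgInt} [M.IsMaximal] [Fintype (principalBlock M X)] {z : X}

variable (M) in
/-- the central character at `z` -/
noncomputable def zt (z : X) (χ : principalBlock M X) : ℂ := χ.1.1 z / χ.1.1 1

theorem zt_mul (hz : z ∈ center X) (χ : principalBlock M X) (k : ℕ) (g : X) : χ.1.1 (z ^ k * g) = zt M z χ ^ k * χ.1.1 g := by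
  obtain ⟨c, hc⟩ := χ.1.2.center_le_charCenter hz
  have : zt M z χ = c := by rw [zt, ← mul_one z, hc, mul_div_cancel_right₀ _ χ.1.2.apply_one_ne_zero]
  induction k with
  | zero => simp
  | succ k ih => rw [pow_succ', mul_assoc, hc, ih, this, pow_succ', mul_assoc]

theorem zt_pow (hz : z ∈ center X) (ho : orderOf z = p) (χ : principalBlock M X) : zt M z χ ^ p = 1 := by
  have := zt_mul hz χ p 1
  rw [← ho, pow_orderOf_eq_one, one_mul, ho] at this
  exact mul_right_cancel₀ χ.1.2.apply_one_ne_zero (by rw [← this, one_mul])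

variable (M p) in
/-- the functions on the principal block whose sum is the same over all central characters -/
def W (z : X) : Submodule ℂ (principalBlock M X → ℂ) where
  carrier := {a | ∀ k, 0 < k → k < p → ∑ χ, zt M z χ ^ k * a χ = 0}
  zero_mem' := by simp
  add_mem' ha hb k h1 h2 := by simp [mul_add, Finset.sum_add_distrib, ha k h1 h2, hb k h1 h2]
  smul_mem' c a ha k h1 h2 := by simp [mul_left_comm _ c, ← Finset.mul_sum, ha k h1 h2]

variable (M p) in
/-- linear combinations of evaluations at `p`-regular elements -/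
def Rg : Submodule ℂ (principalBlock M X → ℂ) := Submodule.span ℂ {L | ∃ y, ¬ p ∣ orderOf y ∧ L = fun χ => χ.1.1 y}

variable (M p) in
/-- linear combinations of conjugate evaluations off the sections of the powers of `z` -/
def Of (z : X) : Submodule ℂ (principalBlock M X → ℂ) :=
  Submodule.span ℂ {L | ∃ h x, IsPPart p h x ∧ (x ∈ zpowers z → x = 1) ∧ L = fun χ => conj (χ.1.1 h)}

theorem mul_mem_W (hM : IsPModular p M) (hz : z ∈ center X) (ho : orderOf z = p) {L L' : principalBlock M X → ℂ}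
    (h : L ∈ Rg p M) (h' : L' ∈ Of p M z) : L * L' ∈ W p M z := by
  induction h using Submodule.span_induction with
  | zero => rw [zero_mul]; exact zero_mem _
  | add a b _ _ ha hb => rw [add_mul]; exact add_mem ha hb
  | smul c a _ ha => rw [smul_mul_assoc]; exact Submodule.smul_mem _ _ ha
  | mem L h =>
  obtain ⟨y, hy, rfl⟩ := h
  induction h' using Submodule.span_induction with
  | zero => rw [mul_zero]; exact zero_mem _
  | add a b _ _ ha hb => rw [mul_add]; exact add_mem ha hb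
  | smul c a _ ha => rw [mul_smul_comm]; exact Submodule.smul_mem _ _ ha
  | mem L h =>
  obtain ⟨h, x, hx, h1, rfl⟩ := h
  intro k k0 kp
  have h2 : z ^ k ≠ 1 := pow_ne_one_of_lt_orderOf k0.ne' (ho ▸ kp)
  have h3 := pow_mem hz k
  refine Eq.trans (Finset.sum_congr rfl fun χ _ => ?_) (ker_eq_zero hM (isPPart_mul (x := z ^ k) (mem_center_iff.1 h3 y).symm
    (((Nat.dvd_prime_pow hp.out (m := 1)).1 (by simpa [← ho] using orderOf_pow_dvd k)).imp fun _ a => a.2) hy) hx fun e => ?_)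
  · simp [zt_mul hz, mul_assoc]
  · obtain ⟨c, e⟩ := isConj_iff.1 e
    rw [mem_center_iff.1 h3 c, mul_inv_cancel_right] at e
    exact h2 (e ▸ h1 (e ▸ pow_mem (mem_zpowers z) k))

theorem conj_mem_Of {L : principalBlock M X → ℂ} (h : L ∈ Rg p M) : (fun χ => conj (L χ)) ∈ Of p M z := by
  induction h using Submodule.span_induction with
  | mem L h => obtain ⟨y, hy, rfl⟩ := h; exact Submodule.subset_span ⟨y, 1, isPPart_one_iff.2 hy, fun _ => rfl, rfl⟩
  | zero => simpa [Pi.zero_def] using zero_mem (Of p M z)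
  | add a b _ _ ha hb => simpa [Pi.add_def] using add_mem ha hb
  | smul c a _ ha => simpa [Pi.smul_def] using Submodule.smul_mem _ (conj c) ha

theorem sum_eq_of_mem_W (hz : z ∈ center X) (ho : orderOf z = p) {a : principalBlock M X → ℂ} (h : a ∈ W p M z) {ω : ℂ}
    (hω : ω ^ p = 1) : ∑ χ with zt M z χ = ω, a χ = ∑ χ with zt M z χ = 1, a χ :=
  mul_left_cancel₀ (Nat.cast_ne_zero.2 hp.out.ne_zero)
    ((filter_sum (zt_pow hz ho) h hω).trans (filter_sum (zt_pow hz ho) h (one_pow p)).symm)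

omit [Fintype (principalBlock M X)] in
theorem core (hp2 : p ≠ 2) (hM : IsPModular p M) {f : X →* G} (hf : Function.Surjective f) (hz : z ∈ center X)
    (ho : orderOf z = p) (hk : f.ker = zpowers z) (hc : z ∈ commutator X) {χ₀ : principalBlock M G} {ε : ℤ}
    (hε : ε ^ 2 = 1) (h1 : χ₀ ≠ oneB M G) (hs : ∀ g, p ∣ orderOf g → ε * χ₀.1.1 g = 1)
    (hr : ∀ η : principalBlock M G, η ≠ oneB M G → η ≠ χ₀ → ∃ δ : ℂ, ∀ g, ¬ p ∣ orderOf g → η.1.1 g = δ * (1 + ε * χ₀.1.1 g))
    {u : G} (hu : u * u = 1) (h2 : χ₀.1.1 u ≠ χ₀.1.1 1) (h3 : ε * χ₀.1.1 1 ≠ 1) (h4 : ε * χ₀.1.1 1 + 1 ≠ 0) : False := by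
  classical
  have := Fintype.ofFinite (principalBlock M X)
  have := Fintype.ofFinite X
  have := Fintype.ofFinite G
  have e2 : (ε : ℂ) * ε = 1 := by rw [← sq]; exact_mod_cast hε
  have r1 : ¬ p ∣ orderOf (1 : X) := by simpa using hp.out.ne_one
  have ru : ¬ p ∣ orderOf u := fun a => hp2 ((Nat.prime_dvd_prime_iff_eq hp.out Nat.prime_two).1
    (a.trans (orderOf_dvd_of_pow_eq_one (by rw [sq, hu]))))
  have hkp : IsPGroup p f.ker := hk ▸ .of_card (n := 1) (by rw [Nat.card_zpowers, ho, pow_one])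
  obtain ⟨v, rfl, rv⟩ := exists_regular_lift hp.out hf ru
  have hv : v * v = 1 := (eq_of_regular_of_map_eq hkp r1 (fun a => rv (a.trans (sq v ▸ orderOf_pow_dvd 2))) (one_mem _)
    (by rw [map_mul, hu, map_one]))
  let Ψ : G → ℂ := (oneB M G).1.1 - (ε : ℂ) • χ₀.1.1
  have hΨ : IsGeneralizedCharacter G Ψ := (oneB M G).1.2.isCharacter.isGeneralizedCharacter.sub
    (Int.cast_smul_eq_zsmul ℂ ε χ₀.1.1 ▸ χ₀.1.2.isCharacter.isGeneralizedCharacter.zsmul ε)
  let T : principalBlock M X → ℂ := fun χ => classInner (fun g => χ.1.1 (reg p g)) fun g => Ψ (f g)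
  choose n hn using fun χ : principalBlock M X => (isGen_reg (p := p) χ.1.2.isCharacter.isGeneralizedCharacter).classInner_int
    (hΨ.comp f)
  replace hn : ∀ χ, T χ = n χ := hn
  have hT : T ∈ Rg p M := by
    rw [show T = ∑ g, ((Nat.card X : ℂ)⁻¹ * conj (Ψ (f g))) • fun χ : principalBlock M X => χ.1.1 (reg p g) from by
      funext χ; simp [T, classInner_def, Finset.mul_sum, mul_comm, mul_left_comm]]
    exact Submodule.sum_mem _ fun g _ => Submodule.smul_mem _ _ (Submodule.subset_span ⟨_, reg_regular g, rfl⟩)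
  have hpre := preimage_infl_principalBlock hf (isPBlock_preimage_infl_of_pquo hf hM hkp
    (pquo_of_le fun g _ d hd => by
      obtain ⟨k, rfl⟩ := hk.le hd
      exact (mem_center_iff.1 (zpow_mem hz k) g).symm) isPBlock_principalBlock)
  let ι : principalBlock M G → principalBlock M X := fun η => ⟨infl f hf η.1, hpre.ge η.2⟩
  have hι : ∀ η g, (ι η).1.1 g = η.1.1 (f g) := fun _ _ => rfl
  have fz : f z = 1 := hk.ge (mem_zpowers z)
  have z1 : ∀ η, zt M z (ι η) = 1 := fun η => by rw [zt, hι, hι, fz, map_one, div_self η.1.2.apply_one_ne_zero]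
  have z2 : ∀ χ, zt M z χ = 1 → ∃ η, ι η = χ := fun χ e => by
    obtain ⟨η, a⟩ := exists_infl hf (χ := χ.1) (hk.le.trans (zpowers_le.2 fun y => by simpa [e] using zt_mul hz χ 1 y))
    exact ⟨⟨η, hpre.le (show infl f hf η ∈ _ from a ▸ χ.2)⟩, Subtype.ext a⟩
  have Tι : ∀ η, T (ι η) = (if η = oneB M G then 1 else 0) - ε * if η = χ₀ then 1 else 0 := fun η => by
    have : T (ι η) = classInner η.1.1 Ψ := by
      rw [← classInner_comp_surjective f hf, classInner_def]
      simp only [T, classInner_def]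
      congr 1
      refine Finset.sum_congr rfl fun g _ => ?_
      by_cases a : p ∣ orderOf (f g)
      · simp [Ψ, hs _ a]
      · simp only [hι, map_reg, reg_of_regular a]
    rw [this, classInner_sub_right, classInner_smul_right, classInner_irr, classInner_irr, map_intCast]
    simp only [Subtype.coe_inj]
  have hsum : ∀ a : principalBlock M X → ℂ, ∑ χ with zt M z χ = 1, T χ * a χ = a (ι (oneB M G)) - ε * a (ι χ₀) := fun a => by
    have ne : ι (oneB M G) ≠ ι χ₀ := fun e => h1 (Subtype.ext (infl_injective hf (congrArg Subtype.val e))).symm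
    rw [Finset.sum_eq_add_of_mem _ _ (by simp [z1]) (by simp [z1]) ne fun χ hχ e => ?_]
    · simp [Tι, h1, h1.symm, sub_eq_add_neg]
    · obtain ⟨η, rfl⟩ := z2 χ (Finset.mem_filter.1 hχ).2
      rw [Tι, if_neg fun a => e.1 (by rw [a]), if_neg fun a => e.2 (by rw [a])]; simp
  obtain ⟨ω, hω⟩ : ∃ ω : ℂ, IsPrimitiveRoot ω p := ⟨_, Complex.isPrimitiveRoot_exp p hp.out.ne_zero⟩
  have key : ∀ a ∈ Of p M z, ∑ χ with zt M z χ = ω, n χ * a χ = a (ι (oneB M G)) - ε * a (ι χ₀) := fun a ha => by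
    simpa [hn, ← hsum] using sum_eq_of_mem_W hz ho (mul_mem_W hM hz ho hT ha) hω.pow_eq_one
  have cv : ∀ χ : principalBlock M X, conj (χ.1.1 v) = χ.1.1 v := fun χ => χ.1.2.isCharacter.conj_apply_of_two hv
  have c1 : ∀ χ : principalBlock M X, conj (χ.1.1 1) = χ.1.1 1 := fun χ => χ.1.2.isCharacter.conj_apply_of_two (mul_one 1)
  have m1 : (fun χ => χ.1.1 1) ∈ Rg p M (X := X) := Submodule.subset_span ⟨1, r1, rfl⟩
  have mv : (fun χ => χ.1.1 v) ∈ Rg p M (X := X) := Submodule.subset_span ⟨v, rv, rfl⟩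
  have k1 := key _ (conj_mem_Of hT)
  have k2 := key _ (conj_mem_Of m1)
  have k3 := key _ (conj_mem_Of mv)
  have k4 := key (fun χ => χ.1.1 v ^ 2 / χ.1.1 1) (by
    have h0 : (Nat.card X : ℂ) * ((Nat.card (centralizer ({v} : Set X)) : ℂ)⁻¹ * (Nat.card (centralizer ({v} : Set X)) : ℂ)⁻¹) ≠ 0 := by
      simp
    rw [← Submodule.smul_mem_iff _ h0, show (_ • fun χ : principalBlock M X => χ.1.1 v ^ 2 / χ.1.1 1) =
      ∑ g, ((Nat.card X : ℂ)⁻¹ * pairFun v v g) • fun χ : principalBlock M X => conj (χ.1.1 g) from by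
        funext χ
        have := classInner_pairFun v v χ.1.2
        rw [cv, ← sq (χ.1.1 v)] at this
        rw [Pi.smul_apply, smul_eq_mul, ← this, classInner_def, Finset.mul_sum, Finset.sum_apply]
        simp only [Pi.smul_apply, smul_eq_mul, mul_assoc]]
    refine Submodule.sum_mem _ fun g _ => ?_
    obtain ⟨x, hx⟩ := exists_isPPart hp.out g
    by_cases a : x ∈ zpowers z → x = 1
    · exact Submodule.smul_mem _ _ (Submodule.subset_span ⟨g, x, hx, a, rfl⟩)
    rw [pairFun_eq_zero fun s t hs ht e => a fun b => ?_, mul_zero, zero_smul]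
    · exact zero_mem _
    have sq1 : ∀ {s}, IsConj v s → s * s = 1 := fun a => by
      obtain ⟨c, rfl⟩ := isConj_iff.1 a
      rw [conj_mul, hv]; simp
    have := ((e ▸ hx : IsPPart p (s * t) x).inverted (sq1 hs) (sq1 ht)).1
    rw [mem_center_iff.1 (zpowers_le.2 hz b) s, mul_inv_cancel_right] at this
    obtain ⟨k, e⟩ := hx.orderOf_eq
    exact Invol.eq_one_of_odd_of_inv (e ▸ (hp.out.odd_of_ne_two hp2).pow) this.symm)
  simp only [cv, c1] at k2 k3
  simp only [hι, map_one, oneB_apply, Tι, if_pos, if_neg h1, if_neg h1.symm] at k1 k2 k3 k4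
  have e0 : (ε : ℂ) ≠ 0 := left_ne_zero_of_mul_eq_one e2
  have d0 := χ₀.1.2.apply_one_ne_zero
  set d := ε * χ₀.1.1 1 with hd
  set w := ε * χ₀.1.1 (f v) with hw
  let R : principalBlock M X → ℂ := (w + 1) • (fun χ => χ.1.1 1) - (d + 1) • (fun χ => χ.1.1 v) + (d - w) • T
  have mR : R ∈ Rg p M := add_mem (sub_mem (Submodule.smul_mem _ _ m1) (Submodule.smul_mem _ _ mv)) (Submodule.smul_mem _ _ hT)
  have k5 := sum_eq_of_mem_W hz ho (mul_mem_W hM hz ho mR (conj_mem_Of mR)) hω.pow_eq_one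
  rw [Finset.sum_eq_zero (s := Finset.univ.filter fun χ => zt M z χ = 1) fun χ hχ => by
    obtain ⟨η, rfl⟩ := z2 χ (Finset.mem_filter.1 hχ).2
    refine mul_eq_zero_of_left ?_ _
    simp only [R, Pi.add_apply, Pi.sub_apply, Pi.smul_apply, smul_eq_mul, hι, Tι, map_one]
    by_cases a : η = oneB M G
    · simp [a, h1.symm]
    by_cases b : η = χ₀
    · rw [if_neg a, if_pos b, b]
      apply mul_left_cancel₀ e0
      linear_combination (w + 1) * hd - (d + 1) * hw - (d - w) * e2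
    · obtain ⟨δ, e⟩ := hr η a b
      rw [if_neg a, if_neg b, e _ ru, e 1 (by simpa using hp.out.ne_one)]
      ring] at k5
  have k6 : ∀ χ, zt M z χ = ω → R χ = 0 := fun χ hχ => by
    simp only [Pi.mul_apply, Complex.mul_conj] at k5
    exact Complex.normSq_eq_zero.1 ((Finset.sum_eq_zero_iff_of_nonneg fun _ _ => Complex.normSq_nonneg _).1
      (by exact_mod_cast k5) χ (by simpa))
  obtain ⟨i, hi, j, hj, i2, j2, h5⟩ := two_of_sum_sq (S := Finset.univ.filter fun χ => zt M z χ = ω) (n := n) (by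
    apply Int.cast_injective (α := ℂ)
    simp only [hn, map_intCast] at k1
    simp only [Int.cast_sum, Int.cast_mul, sq, k1]
    simp [e2]; norm_num)
  rw [h5] at k2 k3 k4
  have q : ∀ {χ}, n χ ^ 2 = 1 → (n χ : ℂ) * n χ = 1 := fun a => by rw [← sq]; exact_mod_cast a
  have hne : ∀ {χ}, n χ ^ 2 = 1 → n χ * χ.1.1 1 ≠ 0 := fun {χ} a =>
    mul_ne_zero (left_ne_zero_of_mul_eq_one (q a)) χ.1.2.apply_one_ne_zero
  have fin : ∀ {χ}, zt M z χ = ω → n χ * χ.1.1 1 ≠ 1 := fun {χ} a b => by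
    obtain ⟨m, -, e⟩ := χ.1.2.exists_pos_degree
    have : χ.1.1 1 = 1 := by
      rw [e] at b ⊢
      exact_mod_cast Int.eq_one_of_mul_eq_one_left (a := n χ) (b := m) (by omega) (by exact_mod_cast b)
    have := apply_eq_of_mem_charKer (χ.1.2.degree_eq_one_iff.1 this hc)
    exact hω.ne_one hp.out.one_lt (by rw [← a, zt, this, div_self χ.1.2.apply_one_ne_zero])
  have q2 : ∀ {χ}, n χ ^ 2 = 1 → (n χ * χ.1.1 v) ^ 2 / (n χ * χ.1.1 1) = n χ * (χ.1.1 v ^ 2 / χ.1.1 1) := fun {χ} a => by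
    have := left_ne_zero_of_mul_eq_one (q a)
    field_simp
  refine (alg (w := w) (hne i2) (hne j2) (mul_ne_zero e0 d0) h3 h4 (fun a => h2 (mul_left_cancel₀ e0 a).symm) k2 k3 ?_ ?_).elim
    (fin (Finset.mem_filter.1 hi).2) (fin (Finset.mem_filter.1 hj).2)
  · rw [q2 i2, q2 j2, k4, hw]
    field_simp
  · have := k6 i (Finset.mem_filter.1 hi).2
    simp only [R, Pi.add_apply, Pi.sub_apply, Pi.smul_apply, smul_eq_mul, hn] at this
    linear_combination n i * this - (d - w) * q i2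

end core

end Cfsg.Lib.SmT
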